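import Mathlib

/-!
A finite group generated by its `p`-elements needs at least `p + 1` proper subgroups to cover
the `p`-elements.
-/

set_option autoImplicit false

universe u

namespace CfsgLib.CoverP

variable {p : ℕ} [Fact p.Prime]

omit [Fact p.Prime] in
/-- Conjugation respects "generating the whole group". -/
theorem sup_smul_eq_top_iff {G : Type u} [Group G] (g : G) (A B : Sylow p G) :
    ((g • A : Sylow p G) : Subgroup G) ⊔ ((g • B : Sylow p G) : Subgroup G) = ⊤ ↔
      (A : Subgroup G) ⊔ (B : Subgroup G) = ⊤ := by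
  have hs : Function.Surjective (MulAut.conj g).toMonoidHom := (MulAut.conj g).surjective
  have hA : ((g • A : Sylow p G) : Subgroup G)
      = (A : Subgroup G).map (MulAut.conj g).toMonoidHom := rfl
  have hB : ((g • B : Sylow p G) : Subgroup G)
      = (B : Subgroup G).map (MulAut.conj g).toMonoidHom := rfl
  rw [hA, hB, ← Subgroup.map_sup]
  constructor
  · intro h
    refine Subgroup.map_injective (f := (MulAut.conj g).toMonoidHom)
      (MulAut.conj g).injective ?_
    exact h.trans (Subgroup.map_top_of_surjective _ hs).symm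
  · intro h
    rw [h, Subgroup.map_top_of_surjective _ hs]

/-- In a `p`-group, `p` proper subgroups do not cover. -/
theorem pgroup_not_covered {G : Type u} [Group G] [Finite G] (hG : IsPGroup p G)
    (s : Finset (Subgroup G)) (hsc : s.card ≤ p) (hs : ∀ K ∈ s, K ≠ ⊤)
    (hcov : ∀ g : G, ∃ K ∈ s, g ∈ K) : False := by
  classical
  have := Fintype.ofFinite G
  have hp := (Fact.out : p.Prime)
  have hK : ∀ K ∈ s, Nat.card K * p ≤ Nat.card G := by
    intro K hKs
    obtain ⟨a, ha⟩ := hG.index K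
    have hne : K.index ≠ 1 := fun h => hs K hKs (Subgroup.index_eq_one.mp h)
    have hple : p ≤ K.index := by
      rcases Nat.eq_zero_or_pos a with h | h
      · subst h; simp [ha] at hne
      · rw [ha]; exact Nat.le_self_pow (by omega) p
    rw [← K.card_mul_index]
    exact Nat.mul_le_mul_left _ hple
  have h1 : (Finset.univ : Finset G).erase 1 ⊆
      s.biUnion fun K => ((Finset.univ : Finset G).filter (· ∈ K)).erase 1 := by
    intro g hg
    obtain ⟨K, hKs, hgK⟩ := hcov g
    simp only [Finset.mem_biUnion, Finset.mem_erase, Finset.mem_filter, Finset.mem_univ,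
      true_and]
    exact ⟨K, hKs, (Finset.mem_erase.mp hg).1, hgK⟩
  have h2 := (Finset.card_le_card h1).trans Finset.card_biUnion_le
  have hcard : ∀ K : Subgroup G,
      (((Finset.univ : Finset G).filter (· ∈ K)).erase 1).card = Nat.card K - 1 := by
    intro K
    rw [Finset.card_erase_of_mem (by simp [K.one_mem]), Nat.card_eq_fintype_card,
      Fintype.card_subtype]
  simp only [hcard, Finset.card_erase_of_mem (Finset.mem_univ _), Finset.card_univ,
    ← Nat.card_eq_fintype_card] at h2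
  have h3 : (∑ K ∈ s, (Nat.card K - 1)) * p ≤ p * (Nat.card G - p) := by
    rw [Finset.sum_mul]
    refine (Finset.sum_le_card_nsmul s _ (Nat.card G - p) ?_).trans ?_
    · intro K hKs
      rw [Nat.sub_mul, one_mul]
      exact Nat.sub_le_sub_right (hK K hKs) p
    · rw [smul_eq_mul]; exact Nat.mul_le_mul_right _ hsc
  obtain ⟨K, hKs, -⟩ := hcov 1
  have h4 : p ≤ Nat.card G :=
    le_trans (Nat.le_mul_of_pos_left p Nat.card_pos) (hK K hKs)
  have h5 : (Nat.card G - 1) * p ≤ p * (Nat.card G - p) :=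
    (Nat.mul_le_mul_right p h2).trans h3
  rw [mul_comm p] at h5
  have h6 := Nat.le_of_mul_le_mul_right h5 hp.pos
  have := hp.two_le
  omega

variable (p) in
theorem cover_aux : ∀ (N : ℕ) (G : Type u) [Group G] [Finite G], Nat.card G = N →
    Subgroup.closure {g : G | ∃ k, g ^ p ^ k = 1} = ⊤ → ∀ s : Finset (Subgroup G), s.card ≤ p →
    (∀ K ∈ s, K ≠ ⊤) → (∀ g : G, (∃ k, g ^ p ^ k = 1) → ∃ K ∈ s, g ∈ K) → False := by
  intro N
  induction N using Nat.strong_induction_on with
  | _ N ih =>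
  intro G _ _ hN hgen s hsc hsne hcov
  classical
  have hp := (Fact.out : p.Prime)
  have := Fintype.ofFinite G
  -- a proper subgroup generated by `p`-elements lies in a member of any such cover
  have hsub : ∀ t : Finset (Subgroup G), t.card ≤ p →
      (∀ g : G, (∃ k, g ^ p ^ k = 1) → ∃ K ∈ t, g ∈ K) → ∀ H : Subgroup G, H ≠ ⊤ →
      Subgroup.closure {g : G | g ∈ H ∧ ∃ k, g ^ p ^ k = 1} = H → ∃ K ∈ t, H ≤ K := by
    intro t htc htcov H hH hHgen
    by_contra hno
    push Not at hno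
    have hlt : Nat.card H < N := by
      rw [← hN]
      exact lt_of_le_of_ne H.card_le_card_group fun h => hH (Subgroup.eq_top_of_card_eq _ h)
    have himg : H.subtype '' {g : H | ∃ k, g ^ p ^ k = 1}
        = {g : G | g ∈ H ∧ ∃ k, g ^ p ^ k = 1} := by
      ext g
      constructor
      · rintro ⟨x, ⟨k, hx⟩, rfl⟩
        exact ⟨x.2, k, by simpa using congrArg Subtype.val hx⟩
      · rintro ⟨hg, k, hk⟩
        exact ⟨⟨g, hg⟩, ⟨k, Subtype.ext (by simpa using hk)⟩, rfl⟩
    refine ih _ hlt H rfl ?_ (t.image fun K => K.subgroupOf H)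
      (Finset.card_image_le.trans htc) ?_ ?_
    · refine Subgroup.map_injective H.subtype_injective ?_
      rw [MonoidHom.map_closure, himg, hHgen, ← MonoidHom.range_eq_map, Subgroup.range_subtype]
    · intro K' hK'
      obtain ⟨K, hK, rfl⟩ := Finset.mem_image.mp hK'
      exact fun h => hno K hK (Subgroup.subgroupOf_eq_top.mp h)
    · rintro g ⟨k, hk⟩
      obtain ⟨K, hK, hgK⟩ := htcov g ⟨k, by simpa using congrArg Subtype.val hk⟩
      exact ⟨_, Finset.mem_image_of_mem _ hK, Subgroup.mem_subgroupOf.mpr hgK⟩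
  by_cases hG : IsPGroup p G
  · exact pgroup_not_covered hG s hsc hsne fun g => hcov g (hG g)
  have hsyl : ∀ (P : Sylow p G) (g : G), g ∈ (P : Subgroup G) → ∃ k, g ^ p ^ k = 1 := by
    intro P g hg
    obtain ⟨k, hk⟩ := P.isPGroup' ⟨g, hg⟩
    exact ⟨k, by simpa using congrArg Subtype.val hk⟩
  have hPtop : ∀ P : Sylow p G, (P : Subgroup G) ≠ ⊤ := by
    intro P h
    exact hG fun g => hsyl P g (by simp [h])
  have hPcl : ∀ P : Sylow p G,
      Subgroup.closure {g : G | g ∈ (P : Subgroup G) ∧ ∃ k, g ^ p ^ k = 1} = P := by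
    intro P
    refine le_antisymm ((Subgroup.closure_le _).mpr fun g hg => hg.1) fun g hg => ?_
    exact Subgroup.subset_closure ⟨hg, hsyl P g hg⟩
  -- a minimal subfamily containing every Sylow subgroup
  obtain ⟨J, hJmem, hJmin⟩ := Finset.exists_min_image
    (s.powerset.filter fun J => ∀ P : Sylow p G, ∃ K ∈ J, (P : Subgroup G) ≤ K) Finset.card
    ⟨s, Finset.mem_filter.mpr ⟨Finset.mem_powerset_self s,
      fun P => hsub s hsc hcov P (hPtop P) (hPcl P)⟩⟩
  obtain ⟨hJs, hJcov⟩ := Finset.mem_filter.mp hJmem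
  rw [Finset.mem_powerset] at hJs
  have hJc : J.card ≤ p := (Finset.card_le_card hJs).trans hsc
  have hJel : ∀ g : G, (∃ k, g ^ p ^ k = 1) → ∃ K ∈ J, g ∈ K := by
    rintro g ⟨k, hk⟩
    have hz : IsPGroup p (Subgroup.zpowers g) := by
      rintro ⟨x, n, rfl⟩
      refine ⟨k, Subtype.ext ?_⟩
      show (g ^ n) ^ p ^ k = 1
      rw [← zpow_natCast, ← zpow_mul, mul_comm, zpow_mul, zpow_natCast, hk, one_zpow]
    obtain ⟨P, hP⟩ := hz.exists_le_sylow
    obtain ⟨K, hK, hPK⟩ := hJcov P
    exact ⟨K, hK, hPK (hP (Subgroup.mem_zpowers g))⟩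
  have hexcl : ∀ K ∈ J, ∃ P : Sylow p G,
      (P : Subgroup G) ≤ K ∧ ∀ L ∈ J, (P : Subgroup G) ≤ L → L = K := by
    intro K hK
    by_contra hno
    push Not at hno
    have hc := hJmin (J.erase K) (Finset.mem_filter.mpr ⟨Finset.mem_powerset.mpr
      ((Finset.erase_subset _ _).trans hJs), fun P => ?_⟩)
    · rw [Finset.card_erase_of_mem hK] at hc
      have := Finset.card_pos.mpr ⟨K, hK⟩
      omega
    · obtain ⟨L, hL, hPL⟩ := hJcov P
      rcases eq_or_ne L K with h | h
      · obtain ⟨L', hL', hPL', hne⟩ := hno P (h ▸ hPL)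
        exact ⟨L', Finset.mem_erase.mpr ⟨hne, hL'⟩, hPL'⟩
      · exact ⟨L, Finset.mem_erase.mpr ⟨h, hL⟩, hPL⟩
  -- two Sylow subgroups not generating `G` lie in a common member
  have hcommon : ∀ P Q : Sylow p G, (P : Subgroup G) ⊔ (Q : Subgroup G) ≠ ⊤ →
      ∃ K ∈ J, (P : Subgroup G) ≤ K ∧ (Q : Subgroup G) ≤ K := by
    intro P Q hPQ
    obtain ⟨K, hK, hle⟩ := hsub J hJc hJel _ hPQ (le_antisymm
      ((Subgroup.closure_le _).mpr fun g hg => hg.1) (sup_le
        (fun g hg => Subgroup.subset_closure ⟨Subgroup.mem_sup_left hg, hsyl P g hg⟩)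
        (fun g hg => Subgroup.subset_closure ⟨Subgroup.mem_sup_right hg, hsyl Q g hg⟩)))
    exact ⟨K, hK, le_sup_left.trans hle, le_sup_right.trans hle⟩
  have hne_top : ∀ K ∈ J, K ≠ ⊤ := fun K hK => hsne K (hJs hK)
  have hR : ∀ (P Q : Sylow p G) (K : Subgroup G), K ∈ J → (P : Subgroup G) ≤ K →
      (Q : Subgroup G) ≤ K → (P : Subgroup G) ⊔ (Q : Subgroup G) ≠ ⊤ :=
    fun P Q K hK hP hQ h => hne_top K hK (top_le_iff.mp (h ▸ sup_le hP hQ))
  obtain ⟨K₀, hK₀, -⟩ := hJcov default
  obtain ⟨P₀, hP₀, hP₀x⟩ := hexcl K₀ hK₀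
  -- the relation "does not generate" is transitive, by conjugation to an exclusive subgroup
  have htrans : ∀ S A B : Sylow p G, (S : Subgroup G) ⊔ (A : Subgroup G) ≠ ⊤ →
      (S : Subgroup G) ⊔ (B : Subgroup G) ≠ ⊤ → (A : Subgroup G) ⊔ (B : Subgroup G) ≠ ⊤ := by
    intro S A B hA hB
    obtain ⟨g, rfl⟩ := MulAction.exists_smul_eq G P₀ S
    have key : ∀ C : Sylow p G, ((g • P₀ : Sylow p G) : Subgroup G) ⊔ (C : Subgroup G) ≠ ⊤ →
        ((g⁻¹ • C : Sylow p G) : Subgroup G) ≤ K₀ := by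
      intro C hC
      have h : (P₀ : Subgroup G) ⊔ ((g⁻¹ • C : Sylow p G) : Subgroup G) ≠ ⊤ := by
        rwa [ne_eq, ← sup_smul_eq_top_iff g, smul_inv_smul]
      obtain ⟨L, hL, h1, h2⟩ := hcommon _ _ h
      exact hP₀x L hL h1 ▸ h2
    have := hR _ _ K₀ hK₀ (key A hA) (key B hB)
    rwa [ne_eq, ← sup_smul_eq_top_iff g, smul_inv_smul, smul_inv_smul] at this
  have huniq : ∀ S : Sylow p G, ∀ K ∈ J, ∀ L ∈ J, (S : Subgroup G) ≤ K →
      (S : Subgroup G) ≤ L → K = L := by
    intro S K hK L hL hSK hSL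
    obtain ⟨P, hP, hPx⟩ := hexcl K hK
    obtain ⟨P', hP', hP'x⟩ := hexcl L hL
    obtain ⟨M, hM, h1, h2⟩ := hcommon P P' (htrans S P P' (hR _ _ K hK hSK hP)
      (hR _ _ L hL hSL hP'))
    rw [← hPx M hM h1, hP'x M hM h2]
  -- count Sylow subgroups
  have hcnt : ∀ K ∈ J,
      ((Finset.univ : Finset (Sylow p G)).filter fun P : Sylow p G => (P : Subgroup G) ≤ K).card ≡ 1
        [MOD p] := by
    intro K hK
    obtain ⟨P, hP, -⟩ := hexcl K hK
    rw [← Fintype.card_subtype, ← Nat.card_eq_fintype_card]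
    have hbij : Function.Bijective
        (fun Q : {Q : Sylow p G // (Q : Subgroup G) ≤ K} => Q.1.subtype Q.2) := by
      refine ⟨fun Q R h => Subtype.ext (Sylow.subtype_injective h), fun Q => ?_⟩
      have hpg : IsPGroup p ((Q : Subgroup K).map K.subtype) := Q.isPGroup'.map _
      obtain ⟨R, hR'⟩ := hpg.exists_le_sylow
      have hc : Nat.card ((Q : Subgroup K).map K.subtype) = Nat.card (R : Subgroup G) := by
        rw [Subgroup.card_map_of_injective K.subtype_injective,
          Nat.card_congr (Q.equiv (P.subtype hP)).toEquiv, Sylow.coe_subtype,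
          Nat.card_congr (Subgroup.subgroupOfEquivOfLe hP).toEquiv,
          Nat.card_congr (P.equiv R).toEquiv]
      have heq := Subgroup.eq_of_le_of_card_ge hR' hc.ge
      have hRK : (R : Subgroup G) ≤ K := heq ▸ Subgroup.map_subtype_le _
      refine ⟨⟨R, hRK⟩, Sylow.ext ?_⟩
      show (R : Subgroup G).subgroupOf K = _
      rw [← heq, Subgroup.subgroupOf, Subgroup.comap_map_eq_self_of_injective K.subtype_injective]
    rw [Nat.card_congr (Equiv.ofBijective _ hbij)]
    exact card_sylow_modEq_one p K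
  have hsum : Nat.card (Sylow p G) = ∑ K ∈ J,
      ((Finset.univ : Finset (Sylow p G)).filter fun P : Sylow p G => (P : Subgroup G) ≤ K).card := by
    rw [← Finset.card_biUnion, Nat.card_eq_fintype_card, ← Finset.card_univ]
    · congr 1
      ext P
      simp only [Finset.mem_univ, Finset.mem_biUnion, Finset.mem_filter, true_and, true_iff]
      exact hJcov P
    · intro K hK L hL hKL
      refine Finset.disjoint_left.mpr fun P h1 h2 => hKL ?_
      exact huniq P K hK L hL (Finset.mem_filter.mp h1).2 (Finset.mem_filter.mp h2).2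
  have hmod : J.card ≡ 1 [MOD p] := by
    have h1 := card_sylow_modEq_one p G
    rw [hsum] at h1
    have h2 : ∑ K ∈ J, ((Finset.univ : Finset (Sylow p G)).filter
        fun P : Sylow p G => (P : Subgroup G) ≤ K).card ≡ ∑ K ∈ J, 1 [MOD p] :=
      Nat.ModEq.sum hcnt
    rw [← Finset.card_eq_sum_ones] at h2
    exact h2.symm.trans h1
  have hJpos : 0 < J.card := Finset.card_pos.mpr ⟨K₀, hK₀⟩
  have hJ2 : J.card ≠ 1 := by
    intro h
    obtain ⟨K, rfl⟩ := Finset.card_eq_one.mp h
    refine hne_top K (Finset.mem_singleton_self K) ?_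
    rw [← top_le_iff, ← hgen, Subgroup.closure_le]
    intro g hg
    obtain ⟨L, hL, hgL⟩ := hJel g hg
    rw [Finset.mem_singleton] at hL
    exact hL ▸ hgL
  have hlt := hp.two_le
  unfold Nat.ModEq at hmod
  rw [Nat.mod_eq_of_lt (show 1 < p by omega)] at hmod
  rcases hJc.lt_or_eq with h | h
  · rw [Nat.mod_eq_of_lt h] at hmod; exact hJ2 hmod
  · rw [h, Nat.mod_self] at hmod; omega

end CfsgLib.CoverP
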